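import Cfsg.Agent.Lib.CosetEnum.Suz1782.Data
import Cfsg.Agent.Lib.CosetEnum.SuzOut.Data

/-! Kernel checks of the programs. -/

set_option autoImplicit false
set_option maxRecDepth 20000
set_option Elab.async false

namespace Cfsg.Agent.Lib.CosetEnum.SuzOut

open Cfsg.Agent.Lib.CosetEnum

theorem slp_part0 : allFrom 0 22 (slpAt Suz1782.letters.K 1782 Suz1782.table ops perms) = true := by decide +kernel

theorem slp_part1 : allFrom 22 22 (slpAt Suz1782.letters.K 1782 Suz1782.table ops perms) = true := by decide +kernel

theorem slp_part2 : allFrom 44 22 (slpAt Suz1782.letters.K 1782 Suz1782.table ops perms) = true := by decide +kernel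

theorem slp_part3 : allFrom 66 22 (slpAt Suz1782.letters.K 1782 Suz1782.table ops perms) = true := by decide +kernel

theorem slp_part4 : allFrom 88 22 (slpAt Suz1782.letters.K 1782 Suz1782.table ops perms) = true := by decide +kernel

theorem slp_part5 : allFrom 110 22 (slpAt Suz1782.letters.K 1782 Suz1782.table ops perms) = true := by decide +kernel

theorem slp_part6 : allFrom 132 22 (slpAt Suz1782.letters.K 1782 Suz1782.table ops perms) = true := by decide +kernel

theorem slp_part7 : allFrom 154 22 (slpAt Suz1782.letters.K 1782 Suz1782.table ops perms) = true := by decide +kernel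

theorem slp_part8 : allFrom 176 22 (slpAt Suz1782.letters.K 1782 Suz1782.table ops perms) = true := by decide +kernel

theorem slp_part9 : allFrom 198 22 (slpAt Suz1782.letters.K 1782 Suz1782.table ops perms) = true := by decide +kernel

theorem slp_part10 : allFrom 220 22 (slpAt Suz1782.letters.K 1782 Suz1782.table ops perms) = true := by decide +kernel

theorem slp_part11 : allFrom 242 22 (slpAt Suz1782.letters.K 1782 Suz1782.table ops perms) = true := by decide +kernel

theorem slp_part12 : allFrom 264 22 (slpAt Suz1782.letters.K 1782 Suz1782.table ops perms) = true := by decide +kernel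

theorem slp_part13 : allFrom 286 22 (slpAt Suz1782.letters.K 1782 Suz1782.table ops perms) = true := by decide +kernel

theorem slp_part14 : allFrom 308 22 (slpAt Suz1782.letters.K 1782 Suz1782.table ops perms) = true := by decide +kernel

theorem slp_part15 : allFrom 330 22 (slpAt Suz1782.letters.K 1782 Suz1782.table ops perms) = true := by decide +kernel

theorem slp_part16 : allFrom 352 22 (slpAt Suz1782.letters.K 1782 Suz1782.table ops perms) = true := by decide +kernel

theorem slp_part17 : allFrom 374 22 (slpAt Suz1782.letters.K 1782 Suz1782.table ops perms) = true := by decide +kernel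

theorem slp_part18 : allFrom 396 22 (slpAt Suz1782.letters.K 1782 Suz1782.table ops perms) = true := by decide +kernel

theorem slp_part19 : allFrom 418 22 (slpAt Suz1782.letters.K 1782 Suz1782.table ops perms) = true := by decide +kernel

theorem slp_part20 : allFrom 440 22 (slpAt Suz1782.letters.K 1782 Suz1782.table ops perms) = true := by decide +kernel

theorem slp_part21 : allFrom 462 22 (slpAt Suz1782.letters.K 1782 Suz1782.table ops perms) = true := by decide +kernel

theorem slp_part22 : allFrom 484 22 (slpAt Suz1782.letters.K 1782 Suz1782.table ops perms) = true := by decide +kernel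

theorem slp_part23 : allFrom 506 22 (slpAt Suz1782.letters.K 1782 Suz1782.table ops perms) = true := by decide +kernel

theorem slp_part24 : allFrom 528 22 (slpAt Suz1782.letters.K 1782 Suz1782.table ops perms) = true := by decide +kernel

theorem slp_part25 : allFrom 550 22 (slpAt Suz1782.letters.K 1782 Suz1782.table ops perms) = true := by decide +kernel

theorem slp_part26 : allFrom 572 11 (slpAt Suz1782.letters.K 1782 Suz1782.table ops perms) = true := by decide +kernel

theorem slp_ok : allBelow 583 (slpAt Suz1782.letters.K 1782 Suz1782.table ops perms) = true :=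
  (allBelow_add (allBelow_add (allBelow_add (allBelow_add (allBelow_add (allBelow_add (allBelow_add (allBelow_add (allBelow_add (allBelow_add (allBelow_add (allBelow_add (allBelow_add (allBelow_add (allBelow_add (allBelow_add (allBelow_add (allBelow_add (allBelow_add (allBelow_add (allBelow_add (allBelow_add (allBelow_add (allBelow_add (allBelow_add (allBelow_add (allBelow_add (rfl : allBelow 0 (slpAt Suz1782.letters.K 1782 Suz1782.table ops perms) = true) slp_part0
    (by omega : 0 + 22 = 22)) slp_part1
    (by omega : 22 + 22 = 44)) slp_part2
    (by omega : 44 + 22 = 66)) slp_part3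
    (by omega : 66 + 22 = 88)) slp_part4
    (by omega : 88 + 22 = 110)) slp_part5
    (by omega : 110 + 22 = 132)) slp_part6
    (by omega : 132 + 22 = 154)) slp_part7
    (by omega : 154 + 22 = 176)) slp_part8
    (by omega : 176 + 22 = 198)) slp_part9
    (by omega : 198 + 22 = 220)) slp_part10
    (by omega : 220 + 22 = 242)) slp_part11
    (by omega : 242 + 22 = 264)) slp_part12
    (by omega : 264 + 22 = 286)) slp_part13
    (by omega : 286 + 22 = 308)) slp_part14
    (by omega : 308 + 22 = 330)) slp_part15
    (by omega : 330 + 22 = 352)) slp_part16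
    (by omega : 352 + 22 = 374)) slp_part17
    (by omega : 374 + 22 = 396)) slp_part18
    (by omega : 396 + 22 = 418)) slp_part19
    (by omega : 418 + 22 = 440)) slp_part20
    (by omega : 440 + 22 = 462)) slp_part21
    (by omega : 462 + 22 = 484)) slp_part22
    (by omega : 484 + 22 = 506)) slp_part23
    (by omega : 506 + 22 = 528)) slp_part24
    (by omega : 528 + 22 = 550)) slp_part25
    (by omega : 550 + 22 = 572)) slp_part26
    (by omega : 572 + 11 = 583))

theorem slpI_part0 : allFrom 0 22 (slpAt Suz1782.letters.K 1782 imgTable ops images) = true := by decide +kernel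

theorem slpI_part1 : allFrom 22 22 (slpAt Suz1782.letters.K 1782 imgTable ops images) = true := by decide +kernel

theorem slpI_part2 : allFrom 44 22 (slpAt Suz1782.letters.K 1782 imgTable ops images) = true := by decide +kernel

theorem slpI_part3 : allFrom 66 22 (slpAt Suz1782.letters.K 1782 imgTable ops images) = true := by decide +kernel

theorem slpI_part4 : allFrom 88 22 (slpAt Suz1782.letters.K 1782 imgTable ops images) = true := by decide +kernel

theorem slpI_part5 : allFrom 110 22 (slpAt Suz1782.letters.K 1782 imgTable ops images) = true := by decide +kernel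

theorem slpI_part6 : allFrom 132 22 (slpAt Suz1782.letters.K 1782 imgTable ops images) = true := by decide +kernel

theorem slpI_part7 : allFrom 154 22 (slpAt Suz1782.letters.K 1782 imgTable ops images) = true := by decide +kernel

theorem slpI_part8 : allFrom 176 18 (slpAt Suz1782.letters.K 1782 imgTable ops images) = true := by decide +kernel

theorem slpI_ok : allBelow 194 (slpAt Suz1782.letters.K 1782 imgTable ops images) = true :=
  (allBelow_add (allBelow_add (allBelow_add (allBelow_add (allBelow_add (allBelow_add (allBelow_add (allBelow_add (allBelow_add (rfl : allBelow 0 (slpAt Suz1782.letters.K 1782 imgTable ops images) = true) slpI_part0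
    (by omega : 0 + 22 = 22)) slpI_part1
    (by omega : 22 + 22 = 44)) slpI_part2
    (by omega : 44 + 22 = 66)) slpI_part3
    (by omega : 66 + 22 = 88)) slpI_part4
    (by omega : 88 + 22 = 110)) slpI_part5
    (by omega : 110 + 22 = 132)) slpI_part6
    (by omega : 132 + 22 = 154)) slpI_part7
    (by omega : 154 + 22 = 176)) slpI_part8
    (by omega : 176 + 18 = 194))

theorem slp3_part0 : allFrom 0 22 (slpAt 3 1782 table3 ops3 perms3) = true := by decide +kernel

theorem slp3_part1 : allFrom 22 22 (slpAt 3 1782 table3 ops3 perms3) = true := by decide +kernel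

theorem slp3_part2 : allFrom 44 22 (slpAt 3 1782 table3 ops3 perms3) = true := by decide +kernel

theorem slp3_part3 : allFrom 66 22 (slpAt 3 1782 table3 ops3 perms3) = true := by decide +kernel

theorem slp3_part4 : allFrom 88 22 (slpAt 3 1782 table3 ops3 perms3) = true := by decide +kernel

theorem slp3_part5 : allFrom 110 22 (slpAt 3 1782 table3 ops3 perms3) = true := by decide +kernel

theorem slp3_part6 : allFrom 132 22 (slpAt 3 1782 table3 ops3 perms3) = true := by decide +kernel

theorem slp3_part7 : allFrom 154 22 (slpAt 3 1782 table3 ops3 perms3) = true := by decide +kernel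

theorem slp3_part8 : allFrom 176 15 (slpAt 3 1782 table3 ops3 perms3) = true := by decide +kernel

theorem slp3_ok : allBelow 191 (slpAt 3 1782 table3 ops3 perms3) = true :=
  (allBelow_add (allBelow_add (allBelow_add (allBelow_add (allBelow_add (allBelow_add (allBelow_add (allBelow_add (allBelow_add (rfl : allBelow 0 (slpAt 3 1782 table3 ops3 perms3) = true) slp3_part0
    (by omega : 0 + 22 = 22)) slp3_part1
    (by omega : 22 + 22 = 44)) slp3_part2
    (by omega : 44 + 22 = 66)) slp3_part3
    (by omega : 66 + 22 = 88)) slp3_part4
    (by omega : 88 + 22 = 110)) slp3_part5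
    (by omega : 110 + 22 = 132)) slp3_part6
    (by omega : 132 + 22 = 154)) slp3_part7
    (by omega : 154 + 22 = 176)) slp3_part8
    (by omega : 176 + 15 = 191))

theorem img_ok : allBelow Suz1782.letters.K (fun g =>
    Nat.blt (cert.img.getD g 0) cert.E && colIs 1782 Suz1782.letters.K cert.T' cert.P g (cert.img.getD g 0)) = true := by
  decide +kernel

theorem lx_ok : levelsOK cert.E 1782 cert.P (cert.lx :: cert.lxs) [] = true ∧
    chainSize (cert.lx :: cert.lxs) = 448345497600 := by
  decide +kernel

theorem ls_ok : levelsOK cert.E 1782 cert.P (cert.lsh :: cert.lst) [] = true ∧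
    chainSize (cert.lsh :: cert.lst) = 448345497600 := by
  decide +kernel

theorem bs_ok : levelsOK cert.E 1782 cert.P cert.bs [] = true ∧ chainSize cert.bs = 448345497600 := by
  decide +kernel

theorem rels_ok : Suz1782.letters.RL.all (fun l =>
    eqW (tab 1782 cert.P) (cert.bs.map OrbLevel.base) (l.map fun g => cert.img.getD g 0) []) = true := by
  decide +kernel

theorem img_ne : eqW (tab 1782 cert.P) (cert.bs.map OrbLevel.base) [cert.img.getD 0 0] [] = false := by
  decide +kernel

theorem trip_ok : tripOK (tab2 1782 cert.E cert.P cert.P') (cert.bs.map OrbLevel.base) (cert.E + cert.E1)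
    cert.trip = true := by
  decide +kernel

theorem cent_x : cycBase (tab2 1782 cert.E cert.P cert.P') cert.trip.x (cert.lx :: cert.lxs) = true ∧
    allBelow 1782 (centAt 1782 cert.P (tab2 1782 cert.E cert.P cert.P') cert.trip.x (cert.lx :: cert.lxs)
      cert.trip.X) = true := by
  decide +kernel

theorem cent_s : cycBase (tab2 1782 cert.E cert.P cert.P') cert.trip.s (cert.lsh :: cert.lst) = true ∧
    allBelow 1782 (centAt 1782 cert.P (tab2 1782 cert.E cert.P cert.P') cert.trip.s (cert.lsh :: cert.lst)
      cert.trip.U) = true := by
  decide +kernel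

theorem table3_ok : colIs 1782 3 cert.T3 cert.P 0 cert.trip.x = true ∧
    colIs 1782 3 cert.T3 cert.P 1 cert.trip.s = true ∧ colIs 1782 3 cert.T3 cert.P 2 cert.trip.t = true := by
  decide +kernel

theorem gen3_ok : allBelow Suz1782.letters.K (fun g =>
    Nat.blt (cert.gen3.getD g 0) cert.E3 && colIs 1782 Suz1782.letters.K Suz1782.table cert.P3 g (cert.gen3.getD g 0))
      = true := by
  decide +kernel

end Cfsg.Agent.Lib.CosetEnum.SuzOut
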